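import Groth.Agent.L03.VBPn.CotEnd
import Groth.Agent.L03.VBPn.Cotangent
import Groth.Agent.L09.ResGen.Tens
import Groth.Agent.L18.ProjSpace
import Groth.Agent.L16.ProjSpace.QuotTwist
import Mathlib.LinearAlgebra.Eigenspace.Triangularizable
import Mathlib.FieldTheory.IsAlgClosed.AlgebraicClosure

/-!
# Vector fields on projective space have zeros
-/

set_option autoImplicit false
set_option linter.style.haveILetI false
set_option linter.unusedSectionVars false
set_option backward.isDefEq.respectTransparency false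
set_option backward.isDefEq.respectTransparency.types false

universe u

open CategoryTheory CategoryTheory.Limits CategoryTheory.Abelian AlgebraicGeometry TopologicalSpace Opposite
open MvPolynomial CohB1
open Groth.L18.Frame (rs ro rs_rs ro_ro rs_smul rs_self IsFrame pull)
open Groth.L16.ProjSpace (xsec dOpen Xd isFrame_xsec polyToSection polyToSection_apply polyToSection_surjective)
open Groth.L19.ProjBdl (IsBasisOn lc lc_coord coord app_lc app_rs app_ι_kernel)
open Groth.L22.Reg (O')
open Groth.L03.VBPn (L1 eulerU b₀ isBasisOn_b₀ nonempty_inv_twist sec_eq nonempty_kernel_iso)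

noncomputable section

namespace Groth.L04.PnField

variable (n : ℕ) (k : Type u) [Field k]

/-- A linear form is the sum of its coefficients times the variables. -/
theorem eq_sum_of_isHomogeneous_one {σ : Type*} [Fintype σ] {R : Type*} [CommRing R] {p : MvPolynomial σ R}
    (hp : p.IsHomogeneous 1) : p = ∑ i, C (coeff (Finsupp.single i 1) p) * X i := by
  classical
  ext m
  rw [coeff_sum]
  simp only [coeff_C_mul, coeff_X']
  by_cases hm : coeff m p = 0
  · rw [hm]
    refine (Finset.sum_eq_zero fun i _ => ?_).symm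
    split_ifs with h
    · rw [h, hm, zero_mul]
    · exact mul_zero _
  · obtain ⟨i, rfl⟩ : ∃ i, Finsupp.single i 1 = m := by
      have h1 := hp hm
      rw [Finsupp.weight_apply] at h1
      simp only [Pi.one_apply, smul_eq_mul, mul_one] at h1
      obtain ⟨i, hi⟩ := (Finsupp.sum_eq_one_iff _).1 h1
      exact ⟨i, hi.symm⟩
    rw [Finset.sum_eq_single i]
    · simp
    · intro j _ hj
      rw [if_neg fun h => hj ((Finsupp.single_left_inj one_ne_zero).1 h), mul_zero]
    · exact fun h => absurd (Finset.mem_univ i) h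

/-- A section given by a linear form is the ratio times the coordinate. -/
theorem rs_poly_eq (l : Fin (n + 1)) (g : polyGrading n k 1) :
    rs (L1 n k) (le_top : dOpen n k l ≤ ⊤) (polyToSection n k 1 g) =
      Groth.L16.ProjTwist.ratio (polyGrading n k) g (Xd n k l) •
        rs (L1 n k) (le_top : dOpen n k l ≤ ⊤) (xsec n k l) := by
  refine Subtype.ext (funext fun x => Subtype.ext ?_)
  refine Eq.trans ?_ (Twist.coe_smul_val _ x.1
    ((show Twist.O (𝒜 := polyGrading n k) (op (dOpen n k l : Opens (ProjectiveSpectrum.top (polyGrading n k)))) from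
      Groth.L16.ProjTwist.ratio (polyGrading n k) g (Xd n k l)).1 x) _).symm
  change (Localization.mk g.1 ⟨1, _⟩ : Twist.Loc (polyGrading n k) x.1) = _ *
    Localization.mk (Xd n k l).1 ⟨1, _⟩
  have e : ro (X := Proj (polyGrading n k)) (le_refl (dOpen n k l))
      (Groth.L16.ProjTwist.ratio (polyGrading n k) g (Xd n k l)) =
      Groth.L16.ProjTwist.ratio (polyGrading n k) g (Xd n k l) := Groth.L18.Frame.ro_self _ _
  rw [← e]
  erw [Groth.L16.ProjTwist.ratio_val (polyGrading n k) g (Xd n k l) (dOpen n k l) le_rfl x]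
  rw [Localization.mk_mul, Localization.mk_eq_mk_iff, Localization.r_iff_exists]
  exact ⟨1, by simp only [Submonoid.coe_one, Submonoid.coe_mul, one_mul, mul_one, pow_one]; ring⟩

/-- The image of a basic open of the chart. -/
theorem chart_mem_basicOpen (l : Fin (n + 1))
    (w : HomogeneousLocalization.Away (polyGrading n k) (Xd n k l).1)
    (q : PrimeSpectrum (HomogeneousLocalization.Away (polyGrading n k) (Xd n k l).1)) :
    Proj.awayι (polyGrading n k) (Xd n k l).1 (Xd n k l).2 one_pos q ∈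
      (Proj (polyGrading n k)).basicOpen (Proj.awayToSection (polyGrading n k) (Xd n k l).1 w) → w ∉ q.asIdeal := by
  let 𝒜 := polyGrading n k
  let f := (Xd n k l).1
  have e : Proj.awayι 𝒜 f (Xd n k l).2 one_pos ''ᵁ PrimeSpectrum.basicOpen w =
      (Proj 𝒜).basicOpen (Proj.awayToSection 𝒜 f w) := by
    rw [← basicOpen_eq_of_affine (R := .of (HomogeneousLocalization.Away 𝒜 f)) w, Scheme.image_basicOpen]
    have h2 := Groth.L16.ProjTwist.appIso_inv_scalar one_pos (Xd n k l).2 ⊤ w
    rw [Subsingleton.elim ((⊤ : (Spec (.of (HomogeneousLocalization.Away 𝒜 f))).Opens).leTop) (𝟙 _)] at h2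
    simp only [op_id, CategoryTheory.Functor.map_id, CommRingCat.id_apply] at h2
    rw [h2, Scheme.basicOpen_res]
    refine inf_eq_right.2 (((Proj 𝒜).basicOpen_le _).trans_eq ?_)
    rw [Scheme.Hom.image_top_eq_opensRange, Proj.opensRange_awayι]
  intro h
  rw [← e] at h
  obtain ⟨q', hq', hqq⟩ := h
  rw [(Proj.awayι 𝒜 f (Xd n k l).2 one_pos).isOpenEmbedding.injective hqq] at hq'
  exact hq'

theorem unitLeft_tens {X : Scheme.{u}} {A : X.Modules} (W : X.Opens) (r : Γ(X, W)) (x : Γ(A, W)) :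
    (Groth.L00.Tensor.tensorUnitLeft A).hom.app W
      (Groth.L18.GenLoc.tens (Coh.structureModule X) A W r x) = r • x := by
  open MonoidalCategory in
  let x' : (Groth.L00.Tensor.pre A).obj (op W) := x
  let r' : (Groth.L00.Tensor.pre (Coh.structureModule X)).obj (op W) := r
  have e := congrArg (fun k => (ConcreteCategory.hom (PresheafOfModules.Hom.app k (op W)))
    (r' ⊗ₜ[X.sheaf.obj.obj (op W)] x'))
    (Groth.L00.Tensor.unit_lift (MonoidalCategory.leftUnitor (Groth.L00.Tensor.pre A)).hom)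
  exact e

/-- Global vector fields on projective space vanish somewhere. -/
theorem exists_zero (ξ : Omega.sheaf (ProjSpace.toSpec n k) ⟶ Coh.structureModule (ProjSpace n k)) :
    ∃ x : ↥(ProjSpace n k), ∀ (U : (ProjSpace n k).Opens) (hx : x ∈ U)
      (s : Γ(Omega.sheaf (ProjSpace.toSpec n k), U)),
      (ProjSpace n k).presheaf.germ U x hx (OmegaSh.fnSect (ProjSpace n k) U (ξ.app U s)) ∈
        IsLocalRing.maximalIdeal ((ProjSpace n k).presheaf.stalk x) := by
  classical
  let P := ProjSpace n k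
  let p := ProjSpace.toSpec n k
  haveI := Groth.L00.Tensor.grothendieckAbelian_modules P
  haveI : HasExt.{u} P.Modules := inferInstance
  let Ω := Omega.sheaf p
  let w := eulerU n k
  let S := ShortComplex.mk (kernel.ι w) w (kernel.condition w)
  have hS : S.ShortExact :=
    { exact := ShortComplex.exact_kernel w
      mono_f := inferInstanceAs (Mono (kernel.ι w))
      epi_g := inferInstanceAs (Epi w) }
  obtain ⟨e⟩ := nonempty_kernel_iso n k
  let h : kernel w ⟶ L1 n k :=
    e.inv ≫ Groth.L00.Tensor.tensorMap ξ (𝟙 (L1 n k)) ≫ (Groth.L00.Tensor.tensorUnitLeft (L1 n k)).hom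
  -- the extension to the free module
  obtain ⟨e1⟩ := nonempty_inv_twist n k ((1 : ℕ) : ℤ)
  haveI : Subsingleton (Ext (L1 n k) (L1 n k) 1) := by
    refine Groth.L22.PDual.subsingleton_ext_of_twist e1 0 _ ?_
    obtain ⟨a⟩ := Groth.L22.Reg.nonempty_O_add (n := n) (R := k)
      (show ((1 : ℕ) : ℤ) + -((1 : ℕ) : ℤ) = 0 by norm_num)
    exact Groth.L22.Reg.subsingleton_iso a.symm 1
      (Groth.L16.ProjSpace.subsingleton_HH_twist n k 0 1 (by omega) (by omega))
  obtain ⟨x₀, hx₀⟩ := Ext.contravariant_sequence_exact₁ hS (L1 n k) (Ext.mk₀ h) (add_zero 1)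
    (Subsingleton.elim _ _)
  obtain ⟨G, rfl⟩ := (Ext.mk₀_bijective _ _).2 x₀
  rw [Ext.mk₀_comp_mk₀] at hx₀
  have hG : kernel.ι w ≫ G = h := (Ext.mk₀_bijective _ _).1 hx₀
  let F0 := (Scheme.Modules.pullback p).obj (FlatMod.freeMod (Spec (CommRingCat.of k)) (n + 1))
  let c : Fin (n + 1) → Γ(F0, (⊤ : P.Opens)) := fun j => pull p _ ⊤ (b₀ n k j)
  have hc : IsBasisOn F0 (⊤ : P.Opens) c := (isBasisOn_b₀ n k).pullback p
  have hwc : ∀ j, w.app (⊤ : P.Opens) (c j) = xsec n k j := sec_eq n k
  choose L hL using fun j => polyToSection_surjective (n := n) (R := k) 1 (G.app (⊤ : P.Opens) (c j))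
  -- an eigenvector
  let K := AlgebraicClosure k
  let σ : k →+* K := algebraMap k K
  let T : (Fin (n + 1) → K) →ₗ[K] (Fin (n + 1) → K) :=
    Matrix.toLin' (Matrix.of fun j i => σ (coeff (Finsupp.single i 1) (L j).1))
  have hT : ∀ a j, eval₂Hom σ a (L j).1 = T a j := fun a j => by
    conv_lhs => rw [eq_sum_of_isHomogeneous_one ((mem_homogeneousSubmodule _ _).1 (L j).2)]
    simp [T, Matrix.mulVec, dotProduct]
  obtain ⟨μ, hμ⟩ := Module.End.exists_eigenvalue T
  obtain ⟨a, ha⟩ := hμ.exists_hasEigenvector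
  obtain ⟨l, hl⟩ := Function.ne_iff.1 ha.2
  have hal : IsUnit (a l) := Ne.isUnit hl
  let χ := Groth.L18.PS.chartHom σ a l hal
  let q : PrimeSpectrum (HomogeneousLocalization.Away (polyGrading n k) (Xd n k l).1) :=
    ⟨RingHom.ker χ, RingHom.ker_isPrime χ⟩
  let x : P := Proj.awayι (polyGrading n k) (Xd n k l).1 (Xd n k l).2 one_pos q
  have hxl : x ∈ dOpen n k l :=
    (Proj.opensRange_awayι (polyGrading n k) (Xd n k l).1 (Xd n k l).2 one_pos).le ⟨q, rfl⟩
  let z : polyGrading n k 1 → HomogeneousLocalization.Away (polyGrading n k) (Xd n k l).1 := fun g =>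
    HomogeneousLocalization.Away.mk (polyGrading n k) (Xd n k l).2 1 g.1 (by simp)
  have hχ : ∀ g, χ (z g) * a l = eval₂Hom σ a g.1 := fun g => by
    have h1 := Groth.L18.PS.awayEval_mk σ a (Xd n k l).1 (Groth.L18.PS.isUnit_eval_X σ a hal)
      (Xd n k l).2 1 g.1 (by simp)
    simp only [pow_one] at h1
    rw [show eval₂Hom σ a (Xd n k l).1 = a l from eval₂Hom_X' _ _ _] at h1
    exact h1
  let r : polyGrading n k 1 → Γ(P, dOpen n k l) := fun g =>
    Groth.L16.ProjTwist.ratio (polyGrading n k) g (Xd n k l)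
  let d : Fin (n + 1) → Γ(P, dOpen n k l) := fun j => r (L j) - r (Xd n k j) * r (L l)
  have hd : ∀ j, P.presheaf.germ _ x hxl (d j) ∈ IsLocalRing.maximalIdeal (P.presheaf.stalk x) := fun j => by
    have hd' : d j = Proj.awayToSection (polyGrading n k) (Xd n k l).1 (z (L j) - z (Xd n k j) * z (L l)) := by
      rw [map_sub, map_mul]
      rfl
    have hq : z (L j) - z (Xd n k j) * z (L l) ∈ q.asIdeal := by
      rw [RingHom.mem_ker, map_sub, map_mul]
      refine hal.mul_left_injective ?_
      have h1 : χ (z (Xd n k j)) * a l = a j := (hχ _).trans (eval₂Hom_X' _ _ _)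
      have h2 : ∀ i, χ (z (L i)) * a l = μ * a i := fun i => by
        rw [hχ, hT]
        exact congrFun ha.apply_eq_smul i
      linear_combination h2 j - χ (z (Xd n k j)) * h2 l - μ * h1
    rw [IsLocalRing.mem_maximalIdeal, mem_nonunits_iff]
    intro hu
    refine chart_mem_basicOpen n k l _ q ?_ hq
    rw [← hd']
    exact (P.mem_basicOpen (d j) x hxl).2 hu
  refine ⟨x, fun U hx s => ?_⟩
  let W : P.Opens := U ⊓ dOpen n k l
  have hWl : W ≤ dOpen n k l := inf_le_right
  have hWU : W ≤ U := inf_le_left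
  let xl : Γ(L1 n k, dOpen n k l) := rs _ le_top (xsec n k l)
  have hf : IsFrame (L1 n k) (dOpen n k l) xl := isFrame_xsec n k l
  let u : Γ(kernel w, W) := e.hom.app W (Groth.L18.GenLoc.tens Ω (L1 n k) W (rs Ω hWU s) (rs _ hWl xl))
  let f : Γ(P, W) := OmegaSh.fnSect P W (ξ.app W (rs Ω hWU s))
  have hu : h.app W u = f • rs (L1 n k) hWl xl := by
    show (e.inv ≫ Groth.L00.Tensor.tensorMap ξ (𝟙 (L1 n k)) ≫
      (Groth.L00.Tensor.tensorUnitLeft (L1 n k)).hom).app W u = _
    have h0 : e.inv.app W u = Groth.L18.GenLoc.tens Ω (L1 n k) W (rs Ω hWU s) (rs _ hWl xl) :=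
      congrArg (fun φ : CohB1.tensorMod Ω (L1 n k) ⟶ CohB1.tensorMod Ω (L1 n k) =>
        φ.app W (Groth.L18.GenLoc.tens Ω (L1 n k) W (rs Ω hWU s) (rs _ hWl xl))) e.hom_inv_id
    refine Eq.trans (congrArg ((Groth.L00.Tensor.tensorUnitLeft (L1 n k)).hom.app W)
      ((congrArg ((Groth.L00.Tensor.tensorMap ξ (𝟙 (L1 n k))).app W) h0).trans
        (Groth.L09.ResGen.tensorMap_tens ξ (𝟙 (L1 n k)) W _ _))) ?_
    exact unitLeft_tens W f _
  let cs := coord hc (le_top : W ≤ ⊤) ((kernel.ι w).app W u)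
  have hcs : lc F0 c (le_top : W ≤ ⊤) cs = (kernel.ι w).app W u := lc_coord hc _ _
  have hsum : ∀ (φ : F0 ⟶ L1 n k) (g : Fin (n + 1) → polyGrading n k 1),
      (∀ j, φ.app (⊤ : P.Opens) (c j) = polyToSection n k 1 (g j)) →
      φ.app W ((kernel.ι w).app W u) = (∑ j, cs j * ro hWl (r (g j))) • rs (L1 n k) hWl xl := fun φ g hg => by
    rw [← hcs, app_lc, Finset.sum_smul]
    refine Finset.sum_congr rfl fun j _ => ?_
    rw [mul_smul, ← rs_smul, ← rs_poly_eq, rs_rs, ← hg]
  have hw0 : (∑ j, cs j * ro hWl (r (Xd n k j))) = 0 := by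
    refine hf.inj hWl ?_
    refine ((hsum w (fun j => Xd n k j) hwc).symm.trans ?_).trans (zero_smul _ _).symm
    exact app_ι_kernel w W u
  have hfG : f = ∑ j, cs j * ro hWl (r (L j)) := by
    refine hf.inj hWl ?_
    refine hu.symm.trans ?_
    rw [← hG]
    exact hsum G L fun j => (hL j).symm
  have hfd : f = ∑ j, cs j * ro hWl (d j) := by
    have h1 : (∑ j, cs j * ro hWl (d j)) = (∑ j, cs j * ro hWl (r (L j))) -
        (∑ j, cs j * ro hWl (r (Xd n k j))) * ro hWl (r (L l)) := by
      rw [Finset.sum_mul, ← Finset.sum_sub_distrib]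
      refine Finset.sum_congr rfl fun j _ => ?_
      simp only [d, ro, map_sub, map_mul]
      ring
    rw [h1, hw0, zero_mul, sub_zero, hfG]
  have hgs : P.presheaf.germ U x hx (OmegaSh.fnSect P U (ξ.app U s)) = P.presheaf.germ W x ⟨hx, hxl⟩ f := by
    have h1 : f = ro hWU (OmegaSh.fnSect P U (ξ.app U s)) := app_rs ξ hWU s
    rw [h1]
    exact (TopCat.Presheaf.germ_res_apply _ _ _ _ _).symm
  rw [hgs, hfd, map_sum]
  refine Ideal.sum_mem _ fun j _ => ?_
  rw [map_mul]
  refine Ideal.mul_mem_left _ _ ?_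
  refine (congrArg (· ∈ IsLocalRing.maximalIdeal (P.presheaf.stalk x)) ?_).mpr (hd j)
  exact TopCat.Presheaf.germ_res_apply _ _ _ _ _

end Groth.L04.PnField
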